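import Mathlib
import Cfsg.Agent.Lib.SG3.SGFDefs
import Cfsg.Agent.S3794

/-!
# S3795 design (helper14): the base case `n = 2` from S3794 (`σ ^ 4 = 1` ⟹ `G'` nilpotent)
-/

set_option autoImplicit false
set_option linter.unusedSectionVars false

namespace Cfsg.Agent.Helper14.SG2

open Cfsg.Agent.Helper23.SGF

universe u

theorem fitH_two_of_four {G : Type u} [Group G] [Finite G] (hG : Group.IsSolvable G)
    (σ : MulAut G) (hσ : σ ^ (2 ^ (0 + 2)) = 1) (hfpf : ∀ g : G, σ g = g → g = 1) :
    FitH (2 * 0 + 2) G := by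
  have hσ4 : σ ^ 4 = 1 := by simpa using hσ
  have hnil : Group.IsNilpotent ↥(commutator G) := Cfsg.Agent.S3794.result hG σ hσ4 hfpf
  obtain ⟨k, hk⟩ := (Subgroup.isNilpotent_iff_lowerCentralSeries (commutator G)).1 hnil
  refine ⟨![⊥, commutator G, ⊤], rfl, rfl, ?_, ?_, ?_⟩
  · intro i j hij
    fin_cases i <;> fin_cases j <;> first | exact le_rfl | exact bot_le | exact le_top | (exfalso; revert hij; decide)
  · intro i
    fin_cases i
    · show (⊥ : Subgroup G).Normal
      infer_instance
    · show (commutator G).Normal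
      infer_instance
    · show (⊤ : Subgroup G).Normal
      infer_instance
  · intro i
    fin_cases i
    · refine ⟨k, ?_⟩
      show (commutator G).lowerCentralSeries k ≤ ⊥
      rw [hk]
    · refine ⟨1, ?_⟩
      show (⊤ : Subgroup G).lowerCentralSeries 1 ≤ commutator G
      rw [Subgroup.top_lowerCentralSeries_one]

end Cfsg.Agent.Helper14.SG2
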