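import Mathlib
import Cfsg.Agent.Lib.SG3.SGFDefs

/-!
# S3795 design (helper14), Gross's theorem for `p = 2`: shared definitions of the OUTER part

`SCfgP G A X p`: the configuration `SCfg` of Lib/SG3 WITHOUT the hypothesis `p ≠ 2`:
ambient finite group `Γ`, `G ⊴ Γ` solvable, `A ≤ Γ` a cyclic `p`-group with `C_G(A) = 1` and
`p ∤ |G|`, `X ≤ A` the subgroup of order `p`.  (`FitH` is reused from Lib/SG3/SGFDefs.)
-/

set_option autoImplicit false
set_option linter.unusedSectionVars false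

namespace Cfsg.Agent.Helper14.SG2

universe u

/-- the configuration: `G ⊴ Γ` solvable, `A ≤ Γ` a cyclic `p`-group, `p ∤ |G|`,
`C_G(A) = 1`, `X ≤ A` of order `p` (no hypothesis `p ≠ 2`) -/
structure SCfgP {Γ : Type u} [Group Γ] (G A X : Subgroup Γ) (p : ℕ) : Prop where
  hp : p.Prime
  normal : G.Normal
  sol : Group.IsSolvable ↥G
  cyc : IsCyclic ↥A
  pgrp : IsPGroup p ↥A
  hXA : X ≤ A
  cardX : Nat.card ↥X = p
  cop : (Nat.card ↥G).Coprime p
  fpf : ∀ g ∈ G, (∀ a ∈ A, a * g = g * a) → g = 1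

end Cfsg.Agent.Helper14.SG2
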