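import Mathlib
import Cfsg.Agent.Lib.Helper8.FrobLin2
import Cfsg.Agent.Lib.SG2N.NSMain

/-!
# S3795 design (helper14): interface to the NO-STACKING block THM-3L (helper8, Lib/SG2N):
`X`-form of `Cfsg.Agent.Helper8.SG2N.no_stack`.
-/

set_option autoImplicit false
set_option linter.unusedSectionVars false

namespace Cfsg.Agent.Helper14.SG2

open Cfsg.Agent.Helper8.FrobLin

universe u v w

/-- **THM-3L (no stacking).** `A` a cyclic `2`-group normalising the `q`-group `Q` and the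
`s`-group `S` (`q ≠ s` odd primes), `S` normalising `Q`, `C_Q(A) = C_S(A) = 1`, all acting on `V`
(characteristic `≠ 2, q`) with `C_V(A) = 0`.  Then `[S, X]` commutes with `Q` on `V`, `X ≤ A` of
order `2`. -/
theorem no_stack {F : Type w} [Field F] [IsAlgClosed F] {q s : ℕ}
    (hq : q.Prime) (hs : s.Prime) (hq2 : q ≠ 2) (hs2 : s ≠ 2) (hqs : q ≠ s)
    (h2F : ((2 : ℕ) : F) ≠ 0) (hqF : (q : F) ≠ 0)
    {Γ : Type u} [Group Γ] [Finite Γ] {V : Type v} [AddCommGroup V] [Module F V]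
    [FiniteDimensional F V] (ρ : Representation F Γ V) (Q S A X : Subgroup Γ)
    (hAQ : ∀ a ∈ A, ∀ g ∈ Q, a * g * a⁻¹ ∈ Q) (hAS : ∀ a ∈ A, ∀ y ∈ S, a * y * a⁻¹ ∈ S)
    (hSQ : ∀ y ∈ S, ∀ g ∈ Q, y * g * y⁻¹ ∈ Q)
    (hQ : IsPGroup q ↥Q) (hS : IsPGroup s ↥S)
    (hAc : IsCyclic ↥A) (hA : IsPGroup 2 ↥A) (hXA : X ≤ A) (hX : Nat.card ↥X = 2)
    (hfix : fixedBy ρ A = ⊥)
    (hfpfQ : ∀ g ∈ Q, (∀ a ∈ A, a * g = g * a) → g = 1)
    (hfpfS : ∀ y ∈ S, (∀ a ∈ A, a * y = y * a) → y = 1) :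
    ∀ y ∈ S, ∀ x ∈ X, ∀ g ∈ Q,
      ρ (y * x * y⁻¹ * x⁻¹) * ρ g = ρ g * ρ (y * x * y⁻¹ * x⁻¹) := by
  intro y hy x hx g hg
  have hx2 : x * x = 1 := by
    have h1 : (⟨x, hx⟩ : ↥X) ^ Nat.card ↥X = 1 := pow_card_eq_one'
    rw [hX] at h1
    have h2 := congrArg Subtype.val h1
    simpa [pow_two] using h2
  have h2F' : (2 : F) ≠ 0 := by
    intro h
    apply h2F
    rw [Nat.cast_ofNat]
    exact h
  exact Cfsg.Agent.Helper8.SG2N.no_stack hq hs hq2 hs2 hqs hqF h2F' ρ Q S A x hQ hS hAc hA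
    hSQ hAQ hAS hfix hfpfQ (hXA hx) hx2 y hy g hg

end Cfsg.Agent.Helper14.SG2
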