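import Mathlib
import Cfsg.Agent.Lib.SG2.SG2Defs
import Cfsg.Agent.Lib.SG2.SG2NS
import Cfsg.Agent.Lib.Helper8.SecRep9
import Cfsg.Agent.Lib.Helper8.HHLin14

/-!
# S3795 design (helper14), piece SG2-CENT: from THM-3L (`no_stack`) and faithfulness to groups
-/

set_option autoImplicit false
set_option linter.unusedSectionVars false

namespace Cfsg.Agent.Helper14.SG2

open Cfsg.Agent.Helper8.FrobLin Cfsg.Agent.Helper8.SecRep

universe u

variable {Γ : Type u} [Group Γ]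

/-- **piece SG2-CENT.**  In the linear situation (`K` faithful on `W` over `LK r`, `C_W(A) = 0`, no
normal `r`-subgroup), for an `A`-invariant `s`-subgroup `S ≤ K` and a normal `q`-subgroup `Q` of
`Γ` inside `K`, `q ≠ s`: every commutator `y x y⁻¹ x⁻¹` (`y ∈ S`, `x ∈ X`) centralises `Q`.

Proof: model = `comm_of_pgroup1` in Lib/SG2/SG2KA1.lean (same bookkeeping).  If `Q = ⊥` trivial.
`q ≠ r` (else `Q = ⊥` by `hr3`); `q ∣ |K|`, `|K|` odd (`cfg.cop`) so `q ≠ 2`; if `S = ⊥` then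
`y = 1` and the commutator is `1`; else `s ∣ |K|` so `s ≠ 2`.  `(2 : LK r) ≠ 0` as `r ≠ 2`,
`(q : LK r) ≠ 0` as `q ≠ r` (as in SG2KA1).  Apply `no_stack` with
`hAQ := fun a _ g hg => hQn.conj_mem g hg a`, `hSQ` likewise, `hfpfQ`/`hfpfS` from `cfg.fpf`.
With `c = y x y⁻¹ x⁻¹ ∈ K` (`K` normal) and `g ∈ Q ≤ K`:
`ρ c * ρ g = ρ g * ρ c` ⟹ `ρ (c g c⁻¹ g⁻¹) = 1`
(`Cfsg.Agent.Helper8.HHLin.rho_comm_iff_commutator`) ⟹ `c g c⁻¹ g⁻¹ = 1` by `hinj`. -/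
theorem comm_of_no_stack [Finite Γ] {K A X : Subgroup Γ} (cfg : SCfgP K A X 2)
    (r : ℕ) [Fact r.Prime] (hr2 : r ≠ 2)
    {W : Type u} [AddCommGroup W] [Module (LK r) W] [FiniteDimensional (LK r) W]
    (ρ : Representation (LK r) Γ W)
    (hinj : ∀ g ∈ K, ρ g = 1 → g = 1) (hfix : fixedBy ρ A = ⊥)
    (hr3 : ∀ N : Subgroup Γ, N.Normal → N ≤ K → IsPGroup r ↥N → N = ⊥)
    (s : ℕ) [Fact s.Prime] (S : Subgroup Γ) (hSK : S ≤ K) (hS : IsPGroup s ↥S)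
    (hAS : ∀ a ∈ A, ∀ y ∈ S, a * y * a⁻¹ ∈ S)
    (q : ℕ) [Fact q.Prime] (hqs : q ≠ s) (Q : Subgroup Γ) (hQn : Q.Normal) (hQK : Q ≤ K)
    (hQ : IsPGroup q ↥Q) :
    ∀ y ∈ S, ∀ x ∈ X, ∀ g ∈ Q, (y * x * y⁻¹ * x⁻¹) * g = g * (y * x * y⁻¹ * x⁻¹) := by
  classical
  have hq : q.Prime := Fact.out
  have hs : s.Prime := Fact.out
  have hr : r.Prime := Fact.out
  by_cases hQbot : Q = ⊥
  · intro y _ x _ g hg
    rw [hQbot, Subgroup.mem_bot] at hg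
    rw [hg, mul_one, one_mul]
  by_cases hSbot : S = ⊥
  · intro y hy x _ g _
    rw [hSbot, Subgroup.mem_bot] at hy
    subst hy
    have h1 : (1 : Γ) * x * (1 : Γ)⁻¹ * x⁻¹ = 1 := by group
    rw [h1, one_mul, mul_one]
  -- `q ≠ r`
  have hqr : q ≠ r := by
    intro h
    subst h
    exact hQbot (hr3 Q hQn hQK hQ)
  -- `q ∣ card K`, hence `q ≠ 2`
  have hqK : q ∣ Nat.card ↥K := by
    haveI : Nontrivial ↥Q := (Subgroup.nontrivial_iff_ne_bot Q).mpr hQbot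
    obtain ⟨n, hn0, hn⟩ := hQ.nontrivial_iff_card.mp inferInstance
    have h1 : q ∣ Nat.card ↥Q := by rw [hn]; exact dvd_pow_self _ (ne_of_gt hn0)
    exact h1.trans (Subgroup.card_dvd_of_le hQK)
  have hq2 : q ≠ 2 := by
    intro h
    subst h
    have := Nat.Coprime.eq_one_of_dvd cfg.cop.symm hqK
    exact hq.one_lt.ne' this
  have hsK : s ∣ Nat.card ↥K := by
    haveI : Nontrivial ↥S := (Subgroup.nontrivial_iff_ne_bot S).mpr hSbot
    obtain ⟨n, hn0, hn⟩ := hS.nontrivial_iff_card.mp inferInstance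
    have h1 : s ∣ Nat.card ↥S := by rw [hn]; exact dvd_pow_self _ (ne_of_gt hn0)
    exact h1.trans (Subgroup.card_dvd_of_le hSK)
  have hs2 : s ≠ 2 := by
    intro h
    subst h
    have := Nat.Coprime.eq_one_of_dvd cfg.cop.symm hsK
    exact hs.one_lt.ne' this
  -- characteristic of the field
  haveI : CharP (LK r) r := inferInstance
  have hpF : (((2 : ℕ) : ℕ) : LK r) ≠ 0 := by
    intro h0
    have hdvd := (CharP.cast_eq_zero_iff (LK r) r 2).mp h0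
    exact hr2 ((Nat.prime_dvd_prime_iff_eq hr Nat.prime_two).mp hdvd)
  have hqF : ((q : ℕ) : LK r) ≠ 0 := by
    intro h0
    have hdvd := (CharP.cast_eq_zero_iff (LK r) r q).mp h0
    exact hqr ((Nat.prime_dvd_prime_iff_eq hr hq).mp hdvd).symm
  have hkey := no_stack (F := LK r) hq hs hq2 hs2 hqs hpF hqF ρ Q S A X
    (fun a _ g hg => hQn.conj_mem g hg a) hAS (fun y _ g hg => hQn.conj_mem g hg y)
    hQ hS cfg.cyc cfg.pgrp cfg.hXA cfg.cardX hfix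
    (fun g hg h => cfg.fpf g (hQK hg) h) (fun y hy h => cfg.fpf y (hSK hy) h)
  intro y hy x hx g hg
  have h1 := hkey y hy x hx g hg
  rw [Cfsg.Agent.Helper8.HHLin.rho_comm_iff_commutator] at h1
  have hKn : K.Normal := cfg.normal
  have hcK : y * x * y⁻¹ * x⁻¹ ∈ K := by
    have h2 : x * y⁻¹ * x⁻¹ ∈ K := hKn.conj_mem _ (K.inv_mem (hSK hy)) x
    have h3 : y * x * y⁻¹ * x⁻¹ = y * (x * y⁻¹ * x⁻¹) := by group
    rw [h3]
    exact K.mul_mem (hSK hy) h2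
  have hcc : (y * x * y⁻¹ * x⁻¹) * g * (y * x * y⁻¹ * x⁻¹)⁻¹ * g⁻¹ ∈ K :=
    K.mul_mem (hKn.conj_mem g (hQK hg) _) (K.inv_mem (hQK hg))
  have h2 := hinj _ hcc h1
  calc (y * x * y⁻¹ * x⁻¹) * g
      = ((y * x * y⁻¹ * x⁻¹) * g * (y * x * y⁻¹ * x⁻¹)⁻¹ * g⁻¹) * (g * (y * x * y⁻¹ * x⁻¹)) := by
        group
    _ = g * (y * x * y⁻¹ * x⁻¹) := by rw [h2, one_mul]

end Cfsg.Agent.Helper14.SG2
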