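import Mathlib
import Cfsg.Agent.Lib.SG2.SG2Defs
import Cfsg.Agent.Lib.SG3.SGFCOP
import Cfsg.Agent.Lib.SG3.SGFFIN

/-!
# S3795 design (helper14), pieces SG2-CFG and SG2-TRANS: from the automorphism to the configuration

Both are re-arrangements of the proof of `exists_nilpotent_normal` in Lib/SG3/SGFFIN.lean
(lines 80–190): copy from there.
-/

set_option autoImplicit false
set_option linter.unusedSectionVars false

namespace Cfsg.Agent.Helper14.SG2

open Cfsg.Agent.Helper23.SGF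
open scoped commutatorElement

universe u

/-- **piece SG2-CFG.**  The semidirect product `Γ = G ⋊ ⟨σ⟩` as a configuration `SCfgP … 2`.
Proof = lines 80–143 of Lib/SG3/SGFFIN.lean with `p := 2` and without `hp2`:
`Γ := G ⋊[A₀.subtype] ↥A₀`, `A₀ := Subgroup.zpowers σ`, `il := SemidirectProduct.inl`,
`s := SemidirectProduct.inr ⟨σ, _⟩`; note `Subgroup.zpowers s = (inr).range` (or prove the `SCfgP`
fields directly for `zpowers s`: cyclic, `Nat.card = orderOf s = orderOf σ ∣ 2 ^ (n+1)`), and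
`inr (σ' ^ (2 ^ n)) = s ^ (2 ^ n)` (`map_pow`).  `coprime_of_fpf` is in Lib/SG3/SGFCOP.lean. -/
theorem exists_cfg {G : Type u} [Group G] [Finite G] (hG : Group.IsSolvable G)
    (σ : MulAut G) (n : ℕ) (hσ : σ ^ (2 ^ (n + 1)) = 1) (hψ : σ ^ (2 ^ n) ≠ 1)
    (hfpf : ∀ g : G, σ g = g → g = 1) :
    ∃ (Γ : Type u) (_ : Group Γ) (_ : Finite Γ) (il : G →* Γ) (s : Γ),
      Function.Injective il ∧
      SCfgP il.range (Subgroup.zpowers s) (Subgroup.zpowers (s ^ (2 ^ n))) 2 ∧
      (∀ g : G, il (σ g) = s * il g * s⁻¹) ∧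
      Nat.card ↥(Subgroup.zpowers s) ∣ 2 ^ (n + 1) := by
  -- the semidirect product
  let A₀ : Subgroup (MulAut G) := Subgroup.zpowers σ
  let σ' : ↥A₀ := ⟨σ, Subgroup.mem_zpowers σ⟩
  have hfinΓ : Finite (G ⋊[A₀.subtype] ↥A₀) :=
    Finite.of_equiv _ SemidirectProduct.equivProd.symm
  let il : G →* G ⋊[A₀.subtype] ↥A₀ := SemidirectProduct.inl
  let ir : ↥A₀ →* G ⋊[A₀.subtype] ↥A₀ := SemidirectProduct.inr
  have hil : Function.Injective il := SemidirectProduct.inl_injective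
  have hir : Function.Injective ir := SemidirectProduct.inr_injective
  have haut : ∀ (a : ↥A₀) (g : G), il ((a : MulAut G) g) = ir a * il g * (ir a)⁻¹ := by
    intro a g
    have := SemidirectProduct.inl_aut (φ := A₀.subtype) a g
    rw [map_inv] at this
    exact this
  have hautσ : ∀ g : G, il (σ g) = ir σ' * il g * (ir σ')⁻¹ := fun g => haut σ' g
  -- orders
  have hσ'pow : ∀ j : ℕ, ((σ' ^ j : ↥A₀) : MulAut G) = σ ^ j := by
    intro j
    rw [Subgroup.coe_pow]
  have hσ'1 : σ' ^ (2 ^ (n + 1)) = 1 := by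
    apply Subtype.ext
    rw [hσ'pow, Subgroup.coe_one]
    exact hσ
  have hσ'ne : σ' ^ (2 ^ n) ≠ 1 := by
    intro h
    apply hψ
    rw [← hσ'pow, h, Subgroup.coe_one]
  have hs1 : (ir σ') ^ (2 ^ (n + 1)) = 1 := by rw [← map_pow, hσ'1, map_one]
  have hsne : (ir σ') ^ (2 ^ n) ≠ 1 := by
    intro h
    apply hσ'ne
    apply hir
    rw [map_pow, h, map_one]
  have hdvd : orderOf (ir σ') ∣ 2 ^ (n + 1) := orderOf_dvd_of_pow_eq_one hs1
  obtain ⟨k, -, hk⟩ := (Nat.dvd_prime_pow Nat.prime_two).1 hdvd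
  have hcard : Nat.card ↥(Subgroup.zpowers (ir σ')) = 2 ^ k := by
    rw [Nat.card_zpowers, hk]
  have hX2 : ((ir σ') ^ (2 ^ n)) ^ 2 = 1 := by
    rw [← pow_mul, ← pow_succ]
    exact hs1
  have hordX : orderOf ((ir σ') ^ (2 ^ n)) = 2 := orderOf_eq_prime hX2 hsne
  refine ⟨G ⋊[A₀.subtype] ↥A₀, inferInstance, hfinΓ, il, ir σ', hil, ?_, hautσ, ?_⟩
  · refine ⟨Nat.prime_two, ?_, ?_, ?_, ?_, ?_, ?_, ?_, ?_⟩
    · show (SemidirectProduct.inl : G →* G ⋊[A₀.subtype] ↥A₀).range.Normal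
      rw [SemidirectProduct.range_inl_eq_ker_rightHom]
      exact MonoidHom.normal_ker _
    · exact Group.isSolvable_of_surjective (MonoidHom.ofInjective hil).surjective
    · infer_instance
    · exact IsPGroup.of_card (n := k) hcard
    · rw [Subgroup.zpowers_le]
      exact Subgroup.pow_mem _ (Subgroup.mem_zpowers _) _
    · rw [Nat.card_zpowers, hordX]
    · rw [← Nat.card_congr (MonoidHom.ofInjective hil).toEquiv]
      exact coprime_of_fpf Nat.prime_two σ (n + 1) hσ hfpf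
    · rintro _ ⟨g, rfl⟩ hfix
      have hg : g = 1 := by
        apply hfpf
        apply hil
        have h2 := hfix (ir σ') (Subgroup.mem_zpowers _)
        rw [hautσ g, h2, mul_inv_cancel_right]
      rw [hg, map_one]
  · rw [hcard, hk.symm]
    exact hdvd

/-- **piece SG2-TRANS.**  Transfer back to `G`: for `L := ⁅il.range, zpowers (s ^ k)⁆` the subgroup
`L.comap il` of `G` is normal, `σ`-invariant and contains all `g⁻¹ * (σ ^ k) g`.
Proof = lines 145–190 of Lib/SG3/SGFFIN.lean (`sgf_fin_left_conj_mem`, `sgf_fin_conj_mem` there are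
public: import Cfsg.Agent.Lib.SG3.SGFFIN if you want them, or copy them); first show
`∀ j g, il ((σ ^ j) g) = s ^ j * il g * (s ^ j)⁻¹` by induction on `j`. -/
theorem transfer_comap {G : Type u} [Group G] {Γ : Type u} [Group Γ] (il : G →* Γ)
    (σ : MulAut G) (s : Γ) (k : ℕ) (hn : il.range.Normal)
    (haut : ∀ g : G, il (σ g) = s * il g * s⁻¹) :
    ((⁅il.range, Subgroup.zpowers (s ^ k)⁆).comap il).Normal ∧
    (∀ g ∈ (⁅il.range, Subgroup.zpowers (s ^ k)⁆).comap il,
      σ g ∈ (⁅il.range, Subgroup.zpowers (s ^ k)⁆).comap il) ∧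
    ∀ g : G, g⁻¹ * (σ ^ k) g ∈ (⁅il.range, Subgroup.zpowers (s ^ k)⁆).comap il := by
  have hpow : ∀ (j : ℕ) (g : G), il ((σ ^ j) g) = s ^ j * il g * (s ^ j)⁻¹ := by
    intro j
    induction j with
    | zero =>
      intro g
      simp
    | succ j ih =>
      intro g
      rw [pow_succ, MulAut.mul_apply, ih (σ g), haut g, pow_succ]
      group
  refine ⟨?_, ?_, ?_⟩
  · -- normal
    constructor
    intro x hx g
    rw [Subgroup.mem_comap] at hx ⊢
    rw [map_mul, map_mul, map_inv]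
    exact sgf_fin_left_conj_mem il.range (Subgroup.zpowers (s ^ k)) (il g) ⟨g, rfl⟩ _ hx
  · -- `σ`-invariant
    intro g hg
    rw [Subgroup.mem_comap] at hg ⊢
    rw [haut g]
    apply sgf_fin_conj_mem il.range (Subgroup.zpowers (s ^ k)) s _ _ _ hg
    · intro y hy
      exact hn.conj_mem y hy s
    · intro x hx
      rw [Subgroup.mem_zpowers_iff] at hx
      obtain ⟨j, rfl⟩ := hx
      have hcomm : s * (s ^ k) ^ j = (s ^ k) ^ j * s :=
        (((Commute.refl s).pow_right k).zpow_right j).eq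
      rw [hcomm, mul_inv_cancel_right]
      exact Subgroup.zpow_mem_zpowers _ j
  · -- `g⁻¹ * (σ ^ k) g`
    intro g
    rw [Subgroup.mem_comap, map_mul, map_inv, hpow k g]
    have e : (il g)⁻¹ * (s ^ k * il g * (s ^ k)⁻¹) = ⁅(il g)⁻¹, s ^ k⁆ := by
      rw [commutatorElement_def, inv_inv]
      simp only [mul_assoc]
    rw [e]
    exact Subgroup.commutator_mem_commutator (il.range.inv_mem ⟨g, rfl⟩)
      (Subgroup.mem_zpowers _)

end Cfsg.Agent.Helper14.SG2
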