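import Mathlib
import Cfsg.Agent.Lib.SG2.SG2Defs
import Cfsg.Agent.Lib.SG3.SGFKC
import Cfsg.Agent.Lib.Helper7.Fitting2

/-!
# S3795 design (helper14), piece SG2-FIT: the Fitting subgroup of a subgroup `K ≤ Γ`, inside `Γ`

All four facts are (or are very close to) steps inside the proof of `comm_of_fitting`
(Lib/SG3/SGFKC.lean, lines 43–60): copy from there.  Nilpotency of `Cfsg.fittingSubgroup`:
`Cfsg.Agent.Helper21.fittingSubgroup_isNilpotent` (used in SGFKC) or
`Cfsg.Agent.Helper7.…fittingSubgroup_isNilpotent` (Lib/Helper7/Fitting.lean).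
-/

set_option autoImplicit false
set_option linter.unusedSectionVars false

namespace Cfsg.Agent.Helper14.SG2

universe u

variable {Γ : Type u} [Group Γ]

/-- the Fitting subgroup of `K`, as a subgroup of `Γ` -/
def Fit (K : Subgroup Γ) : Subgroup Γ := (Cfsg.fittingSubgroup ↥K).map K.subtype

theorem fit_le (K : Subgroup Γ) : Fit K ≤ K := Subgroup.map_subtype_le _

/-- `F(K)` is characteristic in `K ⊴ Γ`, hence normal in `Γ`
(`Cfsg.Agent.Helper23.SGF.sgf_kc_fitting_characteristic`,
`ConjAct.normal_of_characteristic_of_normal`) -/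
instance fit_normal (K : Subgroup Γ) [K.Normal] : (Fit K).Normal := by
  have hchar : (Cfsg.fittingSubgroup ↥K).Characteristic :=
    Cfsg.Agent.Helper23.SGF.sgf_kc_fitting_characteristic ↥K
  unfold Fit
  exact ConjAct.normal_of_characteristic_of_normal

theorem fit_nilpotent [Finite Γ] (K : Subgroup Γ) : Group.IsNilpotent ↥(Fit K) := by
  have hnil : Group.IsNilpotent ↥(Cfsg.fittingSubgroup ↥K) :=
    Cfsg.Agent.Helper21.fittingSubgroup_isNilpotent ↥K
  unfold Fit
  exact Group.nilpotent_of_mulEquiv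
    ((Cfsg.fittingSubgroup ↥K).equivMapOfInjective K.subtype K.subtype_injective)

/-- a `K`-invariant nilpotent subgroup of `K` lies in `F(K)`: `N.subgroupOf K` is normal and
nilpotent (isomorphic to `N`), so it is one of the subgroups in the `sSup` defining
`Cfsg.fittingSubgroup ↥K` (`le_sSup`) -/
theorem le_fit (K N : Subgroup Γ) (hNK : N ≤ K) (hN : ∀ g ∈ K, ∀ x ∈ N, g * x * g⁻¹ ∈ N)
    (hnil : Group.IsNilpotent ↥N) : N ≤ Fit K := by
  have hnorm : (N.subgroupOf K).Normal := by
    constructor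
    intro n hn g
    rw [Subgroup.mem_subgroupOf] at hn ⊢
    have := hN g g.2 n hn
    simpa using this
  have hnil' : Group.IsNilpotent ↥(N.subgroupOf K) :=
    Group.nilpotent_of_mulEquiv (Subgroup.subgroupOfEquivOfLe hNK).symm
  have hle : N.subgroupOf K ≤ Cfsg.fittingSubgroup ↥K := by
    unfold Cfsg.fittingSubgroup
    exact le_sSup ⟨hnorm, hnil'⟩
  intro x hx
  exact Subgroup.mem_map.2 ⟨⟨x, hNK hx⟩, hle (Subgroup.mem_subgroupOf.2 hx), rfl⟩

end Cfsg.Agent.Helper14.SG2
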