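import Mathlib
import Cfsg.Agent.Lib.SG2.SG2FIT

/-!
# S3795 design (helper14), piece SG2-NILS (pure finite group theory)
-/

set_option autoImplicit false
set_option linter.unusedSectionVars false

namespace Cfsg.Agent.Helper14.SG2

universe u

variable {Γ : Type u} [Group Γ]

/-- **piece SG2-NILS.**  `K ⊴ Γ`, `F = Fit K`; `C₁ ≤ T` where every element of `T` has a power
`t ^ (s ^ k)` in `F` (`T F / F` is an `s`-group); `C₁` centralises every normal `q`-subgroup of `Γ`
inside `K`, for all primes `q ≠ s`.  Then `C₁` is nilpotent.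

Proof.  Let `Z = Subgroup.center ↥C₁`.  CLAIM: `Z.index` is a power of `s`; then `↥C₁ ⧸ Z` is an
`s`-group (`IsPGroup.of_card`), nilpotent (`IsPGroup.isNilpotent`), and
`isNilpotent_of_ker_le_center (QuotientGroup.mk' Z)` (kernel `= Z`) finishes.
CLAIM: by `Nat.eq_prime_pow_of_unique_prime_dvd` it is enough that a prime `q ≠ s` does not divide
`Z.index`.  Let `P : Sylow q ↥C₁`; we show `P ≤ Z`, then `Z.index ∣ P.index`
(`Subgroup.index_dvd_of_le`) and `q ∤ P.index` (`Sylow.not_dvd_index`…).  Let `c ∈ P`, of order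
`q ^ j`.  `hTs` gives `k` with `c ^ (s ^ k) ∈ F`; as `(s ^ k).Coprime (orderOf c)`,
`c` is a power of `c ^ (s ^ k)` (`exists_pow_eq_self_of_coprime`), so `c ∈ F`.
`F` is nilpotent (`fit_nilpotent`) and finite, so its Sylow `q`-subgroup `P_F : Sylow q ↥F` is normal
(`Group.isNilpotent_of_finite_tfae`, as in Lib/SG3/SGFKB.lean line 36), hence unique
(`Sylow.unique_of_normal`) and characteristic (`Sylow.characteristic_of_normal`); so
`Q := (P_F : Subgroup ↥F).map F.subtype` is normal in `Γ`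
(`ConjAct.normal_of_characteristic_of_normal`, `F = Fit K` normal by `fit_normal`), `Q ≤ F ≤ K`, `Q`
is a `q`-group, and the `q`-element `c` of `F` lies in `Q` (`IsPGroup.exists_le_sylow` applied to
`Subgroup.zpowers ⟨c, _⟩`, then uniqueness).  `hcent q hq Q … c' hc' c hcQ` for all `c' ∈ C₁` shows
that `c` is central in `C₁`. -/
theorem nilpotent_of_cent [Finite Γ] (K T C₁ : Subgroup Γ) [K.Normal] (s : ℕ) [Fact s.Prime]
    (hC₁T : C₁ ≤ T)
    (hTs : ∀ t ∈ T, ∃ k : ℕ, t ^ (s ^ k) ∈ Fit K)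
    (hcent : ∀ (q : ℕ) [Fact q.Prime], q ≠ s → ∀ Q : Subgroup Γ, Q.Normal → Q ≤ K →
      IsPGroup q ↥Q → ∀ c ∈ C₁, ∀ g ∈ Q, c * g = g * c) :
    Group.IsNilpotent ↥C₁ := by
  classical
  have hsP : s.Prime := Fact.out
  have hFnil : Group.IsNilpotent ↥(Fit K) := fit_nilpotent K
  -- Step 1: for a prime `q ≠ s`, every `q`-element of `C₁` is central in `C₁`
  have key : ∀ (q : ℕ) [Fact q.Prime], q ≠ s → ∀ c ∈ C₁, (∃ j : ℕ, orderOf c = q ^ j) →
      ∀ c' ∈ C₁, c' * c = c * c' := by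
    intro q hq hqs c hc hord c' hc'
    obtain ⟨j, hj⟩ := hord
    have hqP : q.Prime := Fact.out
    -- `c ∈ Fit K`
    obtain ⟨k, hk⟩ := hTs c (hC₁T hc)
    have hcop : (s ^ k).Coprime (orderOf c) := by
      rw [hj]
      exact Nat.Coprime.pow _ _ ((Nat.coprime_primes hsP hqP).mpr (Ne.symm hqs))
    have hcF : c ∈ Fit K := by
      obtain ⟨m, hm⟩ := exists_pow_eq_self_of_coprime hcop
      rw [← hm]
      exact (Fit K).pow_mem hk m
    -- the Sylow `q`-subgroup of `Fit K` is normal in `Γ`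
    have hall : ∀ (p : ℕ) (_hp : Fact p.Prime) (P : Sylow p ↥(Fit K)),
        (↑P : Subgroup ↥(Fit K)).Normal :=
      ((Group.isNilpotent_of_finite_tfae (G := ↥(Fit K))).out 0 3).mp hFnil
    let PF : Sylow q ↥(Fit K) := default
    have hPn : (PF : Subgroup ↥(Fit K)).Normal := hall q hq PF
    haveI hPc : (PF : Subgroup ↥(Fit K)).Characteristic := Sylow.characteristic_of_normal PF hPn
    have hQn : ((PF : Subgroup ↥(Fit K)).map (Fit K).subtype).Normal :=
      ConjAct.normal_of_characteristic_of_normal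
    have hQK : (PF : Subgroup ↥(Fit K)).map (Fit K).subtype ≤ K :=
      (Subgroup.map_subtype_le _).trans (fit_le K)
    have hQq : IsPGroup q ↥((PF : Subgroup ↥(Fit K)).map (Fit K).subtype) := PF.isPGroup'.map _
    -- `c` lies in it
    have hcQ : c ∈ (PF : Subgroup ↥(Fit K)).map (Fit K).subtype := by
      have hzp : IsPGroup q ↥(Subgroup.zpowers (⟨c, hcF⟩ : ↥(Fit K))) := by
        apply IsPGroup.of_card (n := j)
        rw [Nat.card_zpowers, Subgroup.orderOf_mk, hj]
      obtain ⟨P', hP'⟩ := hzp.exists_le_sylow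
      have hPP : P' = PF := by
        haveI := Sylow.unique_of_normal PF hPn
        exact Subsingleton.elim _ _
      refine ⟨⟨c, hcF⟩, ?_, rfl⟩
      rw [← hPP]
      exact hP' (Subgroup.mem_zpowers _)
    exact hcent q hqs _ hQn hQK hQq c' hc' c hcQ
  -- Step 2: the index of the centre of `C₁` is a power of `s`
  have hidx : ∃ n : ℕ, (Subgroup.center ↥C₁).index = s ^ n := by
    refine ⟨_, Nat.eq_prime_pow_of_unique_prime_dvd Subgroup.index_ne_zero_of_finite ?_⟩
    intro q hq hdvd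
    by_contra hqs
    haveI : Fact q.Prime := ⟨hq⟩
    let P : Sylow q ↥C₁ := default
    have hPZ : (P : Subgroup ↥C₁) ≤ Subgroup.center ↥C₁ := by
      intro c hc
      rw [Subgroup.mem_center_iff]
      intro c'
      obtain ⟨j, hj⟩ := P.isPGroup' ⟨c, hc⟩
      have h1 : (c : Γ) ^ (q ^ j) = 1 := by
        have h2 := congrArg (fun z : ↥(P : Subgroup ↥C₁) => ((z : ↥C₁) : Γ)) hj
        simpa using h2
      have h3 : ∃ j' : ℕ, orderOf (c : Γ) = q ^ j' := by
        obtain ⟨m, -, hm⟩ := (Nat.dvd_prime_pow hq).mp (orderOf_dvd_of_pow_eq_one h1)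
        exact ⟨m, hm⟩
      have h4 := key q hqs (c : Γ) c.2 h3 (c' : Γ) c'.2
      exact Subtype.ext h4
    exact P.not_dvd_index (hdvd.trans (Subgroup.index_dvd_of_le hPZ))
  -- Step 3: `C₁ / Z(C₁)` is an `s`-group, hence nilpotent
  obtain ⟨n, hn⟩ := hidx
  have hPG : IsPGroup s (↥C₁ ⧸ Subgroup.center ↥C₁) := by
    apply IsPGroup.of_card (n := n)
    rw [← Subgroup.index_eq_card, hn]
  haveI : Group.IsNilpotent (↥C₁ ⧸ Subgroup.center ↥C₁) := hPG.isNilpotent
  apply Subgroup.isNilpotent_of_ker_le_center (QuotientGroup.mk' (Subgroup.center ↥C₁))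
  rw [QuotientGroup.ker_mk']

end Cfsg.Agent.Helper14.SG2
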