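import Mathlib
import Cfsg.Agent.Lib.SG2.SG2Defs
import Cfsg.Agent.Lib.SG2.SG2FIT
import Cfsg.Agent.S0023

/-!
# S3795 design (helper14), piece SG2-SYL: an `A`-invariant Sylow `s`-subgroup `S` of `T` with `T = F S`
(implemented by helper11)
-/

set_option autoImplicit false
set_option linter.unusedSectionVars false

namespace Cfsg.Agent.Helper14.SG2

universe u

variable {Γ : Type u} [Group Γ]

/-- **piece SG2-SYL.**  `T ⊴ Γ`, `Fit K ≤ T ≤ K`, every `t ∈ T` has a power `t ^ (s ^ k)` in `Fit K`.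
Then there is an `A`-invariant `s`-subgroup `S ≤ T` with `T = (Fit K) S`.

Proof: `Cfsg.Agent.S0023.result A T (hAT) (hcop) (Or.inr hsolT) s` (coprime: `|A|` a power of `2`,
`|T| ∣ |K|` odd; `T ≤ K` solvable; `A ≤ normalizer T` since `T` is normal) gives `P : Sylow s ↥T`
with `A ≤ normalizer (P.map T.subtype)`; take `S := (P : Subgroup ↥T).map T.subtype`; for `a ∈ A`,
`a * y * a⁻¹ ∈ S` from `Subgroup.mem_normalizer_iff`.  `T = F S`: inside `↥T` put
`F' := (Fit K).subgroupOf T` (normal) and `H := F' ⊔ P`.  `H.index ∣ (P : Subgroup ↥T).index`, which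
is prime to `s` (`Sylow.not_dvd_index`), and `H.index ∣ F'.index = Nat.card (↥T ⧸ F')`, a power of
`s` because `↥T ⧸ F'` is an `s`-group by `hTs` (`IsPGroup.iff_card`); so `H.index = 1`, `H = ⊤`.
Finally an element of `F' ⊔ P` with `F'` normal is a product `f * y`
(`Subgroup.mem_sup_of_normal_left`/`Subgroup.normal_mul`…). -/
theorem exists_inv_sylow [Finite Γ] {K A X : Subgroup Γ} [K.Normal] (cfg : SCfgP K A X 2)
    (s : ℕ) [Fact s.Prime] (T : Subgroup Γ) (hTn : T.Normal) (hFT : Fit K ≤ T) (hTK : T ≤ K)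
    (hTs : ∀ t ∈ T, ∃ k : ℕ, t ^ (s ^ k) ∈ Fit K) :
    ∃ S : Subgroup Γ, S ≤ T ∧ IsPGroup s ↥S ∧ (∀ a ∈ A, ∀ y ∈ S, a * y * a⁻¹ ∈ S) ∧
      ∀ t ∈ T, ∃ f ∈ Fit K, ∃ y ∈ S, t = f * y := by
  haveI := hTn
  haveI : Fact (Nat.Prime 2) := ⟨Nat.prime_two⟩
  have hs : s.Prime := Fact.out
  have hAT : A ≤ Subgroup.normalizer (T : Set Γ) := by
    rw [Subgroup.normalizer_eq_top T]
    exact le_top
  have hcopAT : (Nat.card ↥A).Coprime (Nat.card ↥T) := by
    obtain ⟨k, hk⟩ := IsPGroup.exists_card_eq cfg.pgrp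
    rw [hk]
    apply Nat.Coprime.pow_left
    have h1 : (Nat.card ↥K).Coprime 2 := cfg.cop
    exact (Nat.Coprime.coprime_dvd_left (Subgroup.card_dvd_of_le hTK) h1).symm
  have hsolT : Group.IsSolvable ↥T := by
    haveI := cfg.sol
    exact solvable_of_solvable_injective (Subgroup.inclusion_injective hTK)
  obtain ⟨P, hP⟩ := Cfsg.Agent.S0023.result A T hAT hcopAT (Or.inr hsolT) s
  refine ⟨(P : Subgroup ↥T).map T.subtype, Subgroup.map_subtype_le _, ?_, ?_, ?_⟩
  · exact P.isPGroup'.map T.subtype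
  · intro a ha y hy
    exact (Subgroup.mem_normalizer_iff.mp (hP ha) y).mp hy
  · -- `T = F S`
    set F' : Subgroup ↥T := (Fit K).subgroupOf T with hF'
    haveI hF'n : F'.Normal := Subgroup.normal_subgroupOf
    set H : Subgroup ↥T := F' ⊔ (P : Subgroup ↥T) with hH
    have hquot : IsPGroup s (↥T ⧸ F') := by
      intro x
      induction x using QuotientGroup.induction_on with
      | H t =>
        obtain ⟨k, hk⟩ := hTs (t : Γ) t.2
        refine ⟨k, ?_⟩
        rw [← QuotientGroup.mk_pow, QuotientGroup.eq_one_iff, hF', Subgroup.mem_subgroupOf]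
        simpa using hk
    obtain ⟨n, hn⟩ := IsPGroup.exists_card_eq hquot
    have hFidx : F'.index = s ^ n := by rw [Subgroup.index_eq_card, hn]
    have h1 : H.index ∣ F'.index := Subgroup.index_dvd_of_le le_sup_left
    have h2 : H.index ∣ (P : Subgroup ↥T).index := Subgroup.index_dvd_of_le le_sup_right
    rw [hFidx] at h1
    obtain ⟨j, -, hj⟩ := (Nat.dvd_prime_pow hs).mp h1
    have hj0 : j = 0 := by
      by_contra hne
      have h3 : s ∣ H.index := by
        rw [hj]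
        exact dvd_pow_self s hne
      exact P.not_dvd_index (h3.trans h2)
    rw [hj0, pow_zero] at hj
    have hHtop : H = ⊤ := Subgroup.index_eq_one.mp hj
    intro t ht
    have h4 : (⟨t, ht⟩ : ↥T) ∈ ((F' ⊔ (P : Subgroup ↥T) : Subgroup ↥T) : Set ↥T) := by
      show (⟨t, ht⟩ : ↥T) ∈ H
      rw [hHtop]
      exact Subgroup.mem_top _
    rw [Subgroup.normal_mul F' (P : Subgroup ↥T)] at h4
    obtain ⟨f, hf, y, hy, hfy⟩ := Set.mem_mul.mp h4
    refine ⟨(f : Γ), Subgroup.mem_subgroupOf.mp hf, (y : Γ), ⟨y, hy, rfl⟩, ?_⟩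
    have h5 := congrArg Subtype.val hfy
    exact h5.symm

end Cfsg.Agent.Helper14.SG2
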