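import Mathlib
import Cfsg.Agent.Lib.SG2.SG2Defs
import Cfsg.Agent.Lib.SG2.SG2FIT
import Cfsg.Agent.Lib.SG2.SG2NILS
import Cfsg.Agent.Lib.SG2.SG2CENT
import Cfsg.Agent.Lib.SG2.SG2SYL

/-!
# S3795 design (helper14), pieces SG2-DFIT and SG2-STACK: `X` centralises the normal `s`-subgroups of
`Γ / F(K)` inside `K / F(K)`
-/

set_option autoImplicit false
set_option linter.unusedSectionVars false

namespace Cfsg.Agent.Helper14.SG2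

open Cfsg.Agent.Helper8.FrobLin Cfsg.Agent.Helper8.SecRep

universe u

variable {Γ : Type u} [Group Γ]

/-- **piece SG2-DFIT.**  In the linear situation, for `T ⊴ Γ`, `T ≤ K`, `T F / F` an `s`-group and an
`A`-invariant `s`-subgroup `S ≤ T`: all commutators `y x y⁻¹ x⁻¹` (`y ∈ S`, `x ∈ X`) lie in
`Fit K`.

Proof: `C₁ := Subgroup.normalClosure {c | ∃ y ∈ S, ∃ x ∈ X, c = y * x * y⁻¹ * x⁻¹}`.
`C₁ ≤ T` (`Subgroup.normalClosure_le_normal`: `y ∈ T`, `x * y⁻¹ * x⁻¹ ∈ T` by normality).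
For `Q ⊴ Γ` a `q`-group in `K`, `q ≠ s`: `Subgroup.centralizer (Q : Set Γ)` is normal (as `Q` is) and
contains the generators by `comm_of_no_stack` (with `hSK := hST.trans hTK`), so it contains `C₁`;
this is `hcent` of `nilpotent_of_cent K T C₁ s hC₁T hTs hcent`, so `C₁` is nilpotent; it is normal
and `≤ K`, so `le_fit` gives `C₁ ≤ Fit K`; the commutators are in `C₁`
(`Subgroup.subset_normalClosure`). -/
theorem comm_mem_fit [Finite Γ] {K A X : Subgroup Γ} [K.Normal] (cfg : SCfgP K A X 2)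
    (r : ℕ) [Fact r.Prime] (hr2 : r ≠ 2)
    {W : Type u} [AddCommGroup W] [Module (LK r) W] [FiniteDimensional (LK r) W]
    (ρ : Representation (LK r) Γ W)
    (hinj : ∀ g ∈ K, ρ g = 1 → g = 1) (hfix : fixedBy ρ A = ⊥)
    (hr3 : ∀ N : Subgroup Γ, N.Normal → N ≤ K → IsPGroup r ↥N → N = ⊥)
    (s : ℕ) [Fact s.Prime] (T : Subgroup Γ) (hTn : T.Normal) (hTK : T ≤ K)
    (hTs : ∀ t ∈ T, ∃ k : ℕ, t ^ (s ^ k) ∈ Fit K)
    (S : Subgroup Γ) (hST : S ≤ T) (hS : IsPGroup s ↥S)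
    (hAS : ∀ a ∈ A, ∀ y ∈ S, a * y * a⁻¹ ∈ S) :
    ∀ y ∈ S, ∀ x ∈ X, y * x * y⁻¹ * x⁻¹ ∈ Fit K := by
  have hgT : {c : Γ | ∃ y ∈ S, ∃ x ∈ X, c = y * x * y⁻¹ * x⁻¹} ⊆ (T : Set Γ) := by
    rintro c ⟨y, hy, x, hx, rfl⟩
    have hyT : y ∈ T := hST hy
    have h1 : x * y⁻¹ * x⁻¹ ∈ T := hTn.conj_mem _ (T.inv_mem hyT) x
    have e : y * x * y⁻¹ * x⁻¹ = y * (x * y⁻¹ * x⁻¹) := by group
    rw [e]
    exact T.mul_mem hyT h1
  have hC₁T : Subgroup.normalClosure {c : Γ | ∃ y ∈ S, ∃ x ∈ X, c = y * x * y⁻¹ * x⁻¹} ≤ T := by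
    have := hTn
    exact Subgroup.normalClosure_le_normal hgT
  have hcent : ∀ (q : ℕ) [Fact q.Prime], q ≠ s → ∀ Q : Subgroup Γ, Q.Normal → Q ≤ K →
      IsPGroup q ↥Q →
      ∀ c ∈ Subgroup.normalClosure {c : Γ | ∃ y ∈ S, ∃ x ∈ X, c = y * x * y⁻¹ * x⁻¹},
        ∀ g ∈ Q, c * g = g * c := by
    intro q _ hqs Q hQn hQK hQ
    have hcn : (Subgroup.centralizer (Q : Set Γ)).Normal := by
      have := hQn
      exact Subgroup.normal_centralizer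
    have hle : Subgroup.normalClosure {c : Γ | ∃ y ∈ S, ∃ x ∈ X, c = y * x * y⁻¹ * x⁻¹} ≤
        Subgroup.centralizer (Q : Set Γ) := by
      apply Subgroup.normalClosure_le_normal
      rintro c ⟨y, hy, x, hx, rfl⟩
      rw [SetLike.mem_coe, Subgroup.mem_centralizer_iff]
      intro g hg
      exact (comm_of_no_stack cfg r hr2 ρ hinj hfix hr3 s S (hST.trans hTK) hS hAS q hqs Q hQn hQK
        hQ y hy x hx g hg).symm
    intro c hc g hg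
    exact (Subgroup.mem_centralizer_iff.mp (hle hc) g hg).symm
  have hnil := nilpotent_of_cent K T _ s hC₁T hTs hcent
  have hC₁n : (Subgroup.normalClosure
      {c : Γ | ∃ y ∈ S, ∃ x ∈ X, c = y * x * y⁻¹ * x⁻¹}).Normal := Subgroup.normalClosure_normal
  have hle := le_fit K _ (hC₁T.trans hTK) (fun g _ x hx => hC₁n.conj_mem x hx g) hnil
  intro y hy x hx
  exact hle (Subgroup.subset_normalClosure ⟨y, hy, x, hx, rfl⟩)

/-- **piece SG2-STACK.**  `X` centralises every normal `s`-subgroup `Sb` of `Γ / F(K)` inside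
`K / F(K)`.

Proof: `T := Sb.comap (QuotientGroup.mk' (Fit K))`; `T` normal, `Fit K ≤ T` (kernel), `T ≤ K`
(from `hSK`: `mk t = mk k`, `k ∈ K`, so `t ∈ k * Fit K ⊆ K` by `fit_le`), `hTs`: `mk t ∈ Sb` an
`s`-group so `(mk t) ^ (s ^ k) = 1` i.e. `t ^ (s ^ k) ∈ Fit K`.  `exists_inv_sylow` gives `S`;
`comm_mem_fit` gives `y x y⁻¹ x⁻¹ ∈ Fit K`.  For `g = mk t ∈ Sb` (`mk` surjective), `t = f * y`,
and `x' = mk x`, `x ∈ X`:  `x t x⁻¹ t⁻¹ = (x f x⁻¹) * (x y x⁻¹ y⁻¹) * f⁻¹ ∈ Fit K`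
(normality; `x y x⁻¹ y⁻¹ = (y x y⁻¹ x⁻¹)⁻¹`), hence `mk x * mk t = mk t * mk x`. -/
theorem stack [Finite Γ] {K A X : Subgroup Γ} [K.Normal] (cfg : SCfgP K A X 2)
    (r : ℕ) [Fact r.Prime] (hr2 : r ≠ 2)
    {W : Type u} [AddCommGroup W] [Module (LK r) W] [FiniteDimensional (LK r) W]
    (ρ : Representation (LK r) Γ W)
    (hinj : ∀ g ∈ K, ρ g = 1 → g = 1) (hfix : fixedBy ρ A = ⊥)
    (hr3 : ∀ N : Subgroup Γ, N.Normal → N ≤ K → IsPGroup r ↥N → N = ⊥)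
    (s : ℕ) [Fact s.Prime] (Sb : Subgroup (Γ ⧸ Fit K)) (hSn : Sb.Normal)
    (hSK : Sb ≤ K.map (QuotientGroup.mk' (Fit K))) (hS : IsPGroup s ↥Sb) :
    ∀ g ∈ Sb, ∀ x ∈ X.map (QuotientGroup.mk' (Fit K)), x * g = g * x := by
  have hTn : (Sb.comap (QuotientGroup.mk' (Fit K))).Normal := hSn.comap _
  have hFT : Fit K ≤ Sb.comap (QuotientGroup.mk' (Fit K)) := by
    intro f hf
    rw [Subgroup.mem_comap]
    have h1 : QuotientGroup.mk' (Fit K) f = 1 := (QuotientGroup.eq_one_iff f).mpr hf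
    rw [h1]
    exact Sb.one_mem
  have hTK : Sb.comap (QuotientGroup.mk' (Fit K)) ≤ K := by
    intro t ht
    rw [Subgroup.mem_comap] at ht
    obtain ⟨k, hk, hkt⟩ := hSK ht
    have h2 : k⁻¹ * t ∈ Fit K := QuotientGroup.eq.mp hkt
    have e : t = k * (k⁻¹ * t) := by group
    rw [e]
    exact K.mul_mem hk (fit_le K h2)
  have hTs : ∀ t ∈ Sb.comap (QuotientGroup.mk' (Fit K)), ∃ k : ℕ, t ^ (s ^ k) ∈ Fit K := by
    intro t ht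
    rw [Subgroup.mem_comap] at ht
    obtain ⟨k, hk⟩ := hS ⟨QuotientGroup.mk' (Fit K) t, ht⟩
    refine ⟨k, ?_⟩
    have h1 : (QuotientGroup.mk' (Fit K) t) ^ (s ^ k) = 1 := congrArg Subtype.val hk
    rw [← map_pow] at h1
    exact (QuotientGroup.eq_one_iff _).mp h1
  obtain ⟨S, hST, hSs, hAS, hdec⟩ := exists_inv_sylow cfg s _ hTn hFT hTK hTs
  have hcf := comm_mem_fit cfg r hr2 ρ hinj hfix hr3 s _ hTn hTK hTs S hST hSs hAS
  have hn : (Fit K).Normal := inferInstance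
  intro g hg x' hx'
  obtain ⟨x, hx, rfl⟩ := hx'
  obtain ⟨t, rfl⟩ := QuotientGroup.mk'_surjective (Fit K) g
  obtain ⟨f, hf, y, hy, rfl⟩ := hdec t hg
  rw [← map_mul, ← map_mul]
  apply QuotientGroup.eq.mpr
  have h1 : y⁻¹ * f⁻¹ * (y⁻¹)⁻¹ ∈ Fit K := hn.conj_mem _ ((Fit K).inv_mem hf) y⁻¹
  have h2 : (y⁻¹ * x⁻¹) * f * (y⁻¹ * x⁻¹)⁻¹ ∈ Fit K := hn.conj_mem _ hf _
  have h3 : y⁻¹ * x⁻¹ * (y⁻¹)⁻¹ * (x⁻¹)⁻¹ ∈ Fit K := hcf y⁻¹ (S.inv_mem hy) x⁻¹ (X.inv_mem hx)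
  have e : (x * (f * y))⁻¹ * (f * y * x) = (y⁻¹ * f⁻¹ * (y⁻¹)⁻¹) *
      ((y⁻¹ * x⁻¹) * f * (y⁻¹ * x⁻¹)⁻¹) * (y⁻¹ * x⁻¹ * (y⁻¹)⁻¹ * (x⁻¹)⁻¹) := by group
  rw [e]
  exact (Fit K).mul_mem ((Fit K).mul_mem h1 h2) h3

end Cfsg.Agent.Helper14.SG2
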