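import Mathlib
import Cfsg.Agent.Lib.SG2.SG2Defs
import Cfsg.Agent.Lib.SG2.SG2FIT
import Cfsg.Agent.Lib.SG2.SG2STACK
import Cfsg.Agent.Lib.SG3.SGFKB
import Cfsg.Agent.Lib.SG3.SGFKC

/-!
# S3795 design (helper14), piece SG2-LIN: the linear theorem LIN2, `[K, X] ≤ F(K)`
-/

set_option autoImplicit false
set_option linter.unusedSectionVars false

namespace Cfsg.Agent.Helper14.SG2

open Cfsg.Agent.Helper23.SGF
open Cfsg.Agent.Helper8.FrobLin Cfsg.Agent.Helper8.SecRep

universe u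

variable {Γ : Type u} [Group Γ]

/-- **piece SG2-LIN (LIN2).**  `[K, X]` is nilpotent.

Proof: in `Γb := Γ ⧸ Fit K` put `Kb := K.map mk`, `Xb := X.map mk` (`mk = QuotientGroup.mk' (Fit K)`).
`Kb` is normal and solvable (images), `(Nat.card ↥Kb).Coprime (Nat.card ↥Xb)` (`Subgroup.card_map_dvd`:
`|Kb| ∣ |K|` odd by `cfg.cop`, `|Xb| ∣ |X| = 2`).
`comm_of_fitting Kb Xb hsol hcop (fun N hNn hNK hNnil => comm_of_nilpotent N Xb hNnil
  (fun q _ Q hQn hQN hQ => stack cfg r hr2 ρ hinj hfix hr3 q Q hQn (hQN.trans hNK) hQ))`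
(exactly the pattern of `centralizes_of_rep1`, Lib/SG2/SG2THMK1.lean) gives
`∀ g ∈ Kb, ∀ x ∈ Xb, x * g = g * x`.  Hence `⁅K, X⁆ ≤ Fit K` (`Subgroup.commutator_le`,
`QuotientGroup.eq_one_iff`), and `⁅K, X⁆` is nilpotent because `Fit K` is (`fit_nilpotent`;
injective `Subgroup.inclusion`, `Cfsg.Agent.Helper7.…isNilpotent_subgroupOf` or
`Subgroup.isNilpotent_of_ker_le_center`-style lemma `sgf_fin_nilp_of_inj` of Lib/SG3/SGFFIN.lean). -/
theorem nilp_of_rep [Finite Γ] {K A X : Subgroup Γ} [K.Normal] (cfg : SCfgP K A X 2)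
    (r : ℕ) [Fact r.Prime] (hr2 : r ≠ 2)
    {W : Type u} [AddCommGroup W] [Module (LK r) W] [FiniteDimensional (LK r) W]
    (ρ : Representation (LK r) Γ W)
    (hinj : ∀ g ∈ K, ρ g = 1 → g = 1) (hfix : fixedBy ρ A = ⊥)
    (hr3 : ∀ N : Subgroup Γ, N.Normal → N ≤ K → IsPGroup r ↥N → N = ⊥) :
    Group.IsNilpotent ↥⁅K, X⁆ := by
  classical
  have hKsol := cfg.sol
  have hKbn : (K.map (QuotientGroup.mk' (Fit K))).Normal :=
    Subgroup.Normal.map inferInstance _ (QuotientGroup.mk'_surjective _)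
  have := hKbn
  have hsol : Group.IsSolvable ↥(K.map (QuotientGroup.mk' (Fit K))) :=
    Group.isSolvable_of_surjective ((QuotientGroup.mk' (Fit K)).subgroupMap_surjective K)
  have hcop : (Nat.card ↥(K.map (QuotientGroup.mk' (Fit K)))).Coprime
      (Nat.card ↥(X.map (QuotientGroup.mk' (Fit K)))) := by
    have h1 : Nat.card ↥(K.map (QuotientGroup.mk' (Fit K))) ∣ Nat.card ↥K :=
      Subgroup.card_map_dvd _ _
    have h2 : Nat.card ↥(X.map (QuotientGroup.mk' (Fit K))) ∣ Nat.card ↥X :=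
      Subgroup.card_map_dvd _ _
    rw [cfg.cardX] at h2
    exact Nat.Coprime.coprime_dvd_left h1 (Nat.Coprime.coprime_dvd_right h2 cfg.cop)
  have hcomm : ∀ g ∈ K.map (QuotientGroup.mk' (Fit K)),
      ∀ x ∈ X.map (QuotientGroup.mk' (Fit K)), x * g = g * x := by
    apply comm_of_fitting _ _ hsol hcop
    intro N hNn hNK hNnil
    have := hNn
    apply comm_of_nilpotent N _ hNnil
    intro q _ Q hQn hQN hQ
    exact stack cfg r hr2 ρ hinj hfix hr3 q Q hQn (hQN.trans hNK) hQ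
  have hle : ⁅K, X⁆ ≤ Fit K := by
    rw [Subgroup.commutator_le]
    intro g hg x hx
    rw [← QuotientGroup.eq_one_iff]
    have h := hcomm (QuotientGroup.mk' (Fit K) g) (Subgroup.mem_map_of_mem _ hg)
      (QuotientGroup.mk' (Fit K) x) (Subgroup.mem_map_of_mem _ hx)
    simp only [QuotientGroup.mk'_apply] at h
    rw [commutatorElement_def]
    simp only [QuotientGroup.mk_mul, QuotientGroup.mk_inv]
    rw [← h]
    group
  have hnil := fit_nilpotent K
  exact Group.nilpotent_of_mulEquiv (Subgroup.subgroupOfEquivOfLe hle)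

end Cfsg.Agent.Helper14.SG2
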