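import Mathlib
import Cfsg.Agent.Lib.SG2.SG2Defs

/-!
# S3795 design (helper14): the two-step property and its extension lemma (piece SG2-TWO)

`TwoStep G L`: the subgroup `L` (in the application `L = [G, X]`) has a `G`-invariant nilpotent
subgroup `N` with `L / N` nilpotent (`L.lowerCentralSeries m ≤ N`).
-/

set_option autoImplicit false
set_option linter.unusedSectionVars false

namespace Cfsg.Agent.Helper14.SG2

open scoped commutatorElement

universe u

variable {Γ : Type u} [Group Γ]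

/-- `L` has a `G`-invariant nilpotent subgroup `N` with `L / N` nilpotent -/
def TwoStep (G L : Subgroup Γ) : Prop :=
  ∃ N : Subgroup Γ, N ≤ L ∧ (∀ g ∈ G, ∀ x ∈ N, g * x * g⁻¹ ∈ N) ∧ Group.IsNilpotent ↥N ∧
    ∃ m : ℕ, L.lowerCentralSeries m ≤ N

/-- conjugation by an element of `H` preserves `⁅H, K⁆` (copy of `sgf_fin_left_conj_mem`) -/
theorem sg2_two_left_conj_mem (H K : Subgroup Γ) (s : Γ) (hs : s ∈ H) :
    ∀ y ∈ ⁅H, K⁆, s * y * s⁻¹ ∈ ⁅H, K⁆ := by
  have hle : ⁅H, K⁆ ≤ (⁅H, K⁆).comap (MulAut.conj s).toMonoidHom := by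
    rw [Subgroup.commutator_le]
    intro g hg x hx
    rw [Subgroup.mem_comap]
    show (MulAut.conj s) ⁅g, x⁆ ∈ ⁅H, K⁆
    rw [MulAut.conj_apply]
    have e : s * ⁅g, x⁆ * s⁻¹ = ⁅s * g, x⁆ * ⁅s, x⁆⁻¹ := by
      simp only [commutatorElement_def]
      group
    rw [e]
    exact (⁅H, K⁆).mul_mem (Subgroup.commutator_mem_commutator (H.mul_mem hs hg) hx)
      ((⁅H, K⁆).inv_mem (Subgroup.commutator_mem_commutator hs hx))
  intro y hy
  have := hle hy
  rw [Subgroup.mem_comap] at this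
  simpa [MulAut.conj_apply] using this

/-- **piece SG2-TWO.**  `V ⊴ Γ`, `V ≤ C ≤ C_Γ(V)`, `C ⊴ Γ`; if `[G, X]` is two-step modulo `V`
and nilpotent modulo `C` then `[G, X]` is two-step.
Proof: let `L = ⁅G, X⁆`, `Nb` the witness for `h1` (recall
`(⁅G, X⁆).map f = ⁅G.map f, X.map f⁆`, `Subgroup.map_commutator`), `m` with
`(L.map mkV).lowerCentralSeries m ≤ Nb`; `hK` gives `m'` with
`(L.map mkC).lowerCentralSeries m' = ⊥` (`Subgroup.isNilpotent_iff_lowerCentralSeries`), hence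
`L.lowerCentralSeries m' ≤ C` (`Subgroup.map_lowerCentralSeries`, kernel of `mk' C`).
Take `N := Nb.comap (mk' V) ⊓ C ⊓ L`.  `G`-invariance: each of the three is (for `L` use
`sg2_left_conj_mem` below).  `N` is nilpotent: the map `↥N →* ↥Nb`, `x ↦ mk' V x`, has kernel
`≤ V ⊓ N ≤ centre of N` because `N ≤ C ≤ C_Γ(V)`; use `isNilpotent_of_ker_le_center`.
`L.lowerCentralSeries (max m m') ≤ N` by antitonicity (`Subgroup.lowerCentralSeries_antitone`). -/
theorem twostep_of_two [Finite Γ] (G X V C : Subgroup Γ) [G.Normal] [V.Normal] [C.Normal]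
    (hVC : V ≤ C) (hCV : C ≤ Subgroup.centralizer (V : Set Γ))
    (h1 : TwoStep (G.map (QuotientGroup.mk' V))
      ⁅G.map (QuotientGroup.mk' V), X.map (QuotientGroup.mk' V)⁆)
    (hK : Group.IsNilpotent
      ↥⁅G.map (QuotientGroup.mk' C), X.map (QuotientGroup.mk' C)⁆) :
    TwoStep G ⁅G, X⁆ := by
  obtain ⟨Nb, hNbL, hNbinv, hNbnil, m, hm⟩ := h1
  have hmapV : (⁅G, X⁆).map (QuotientGroup.mk' V) =
      ⁅G.map (QuotientGroup.mk' V), X.map (QuotientGroup.mk' V)⁆ :=
    Subgroup.map_commutator G X _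
  have hmapC : (⁅G, X⁆).map (QuotientGroup.mk' C) =
      ⁅G.map (QuotientGroup.mk' C), X.map (QuotientGroup.mk' C)⁆ :=
    Subgroup.map_commutator G X _
  obtain ⟨m', hm'⟩ := (Subgroup.isNilpotent_iff_lowerCentralSeries _).1 hK
  have hLC : (⁅G, X⁆).lowerCentralSeries m' ≤ C := by
    have h0 : ((⁅G, X⁆).lowerCentralSeries m').map (QuotientGroup.mk' C) = ⊥ := by
      rw [Subgroup.map_lowerCentralSeries, hmapC, hm']
    intro x hx
    have hx' : QuotientGroup.mk' C x ∈
        ((⁅G, X⁆).lowerCentralSeries m').map (QuotientGroup.mk' C) :=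
      Subgroup.mem_map_of_mem _ hx
    rw [h0, Subgroup.mem_bot] at hx'
    exact (QuotientGroup.eq_one_iff x).mp hx'
  have hLN : (⁅G, X⁆).lowerCentralSeries m ≤ Nb.comap (QuotientGroup.mk' V) := by
    rw [← Subgroup.map_le_iff_le_comap, Subgroup.map_lowerCentralSeries, hmapV]
    exact hm
  refine ⟨Nb.comap (QuotientGroup.mk' V) ⊓ C ⊓ ⁅G, X⁆, inf_le_right, ?_, ?_, max m m', ?_⟩
  · intro g hg x hx
    obtain ⟨⟨hx1, hx2⟩, hx3⟩ := hx
    refine ⟨⟨?_, ?_⟩, ?_⟩
    · have hx1' : QuotientGroup.mk' V x ∈ Nb := hx1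
      have h2 := hNbinv (QuotientGroup.mk' V g) (Subgroup.mem_map_of_mem _ hg) _ hx1'
      show QuotientGroup.mk' V (g * x * g⁻¹) ∈ Nb
      rw [map_mul, map_mul, map_inv]
      exact h2
    · exact (inferInstance : C.Normal).conj_mem x hx2 g
    · exact sg2_two_left_conj_mem G X g hg x hx3
  · haveI := hNbnil
    let f : ↥(Nb.comap (QuotientGroup.mk' V) ⊓ C ⊓ ⁅G, X⁆) →* ↥Nb :=
      ((QuotientGroup.mk' V).comp (Subgroup.subtype _)).codRestrict Nb (fun x => by
        have hx := x.2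
        exact hx.1.1)
    refine Subgroup.isNilpotent_of_ker_le_center f ?_
    intro x hx
    rw [MonoidHom.mem_ker] at hx
    have hxV : (x : Γ) ∈ V := by
      have h2 := congrArg Subtype.val hx
      have h3 : QuotientGroup.mk' V (x : Γ) = 1 := h2
      exact (QuotientGroup.eq_one_iff (x : Γ)).mp h3
    rw [Subgroup.mem_center_iff]
    intro y
    apply Subtype.ext
    have hyC : (y : Γ) ∈ C := y.2.1.2
    have h4 := hCV hyC
    rw [Subgroup.mem_centralizer_iff] at h4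
    have h5 := h4 (x : Γ) hxV
    show (y : Γ) * (x : Γ) = (x : Γ) * (y : Γ)
    exact h5.symm
  · refine le_inf (le_inf ?_ ?_) (Subgroup.lowerCentralSeries_le_self _ _)
    · exact ((⁅G, X⁆).lowerCentralSeries_antitone (le_max_left m m')).trans hLN
    · exact ((⁅G, X⁆).lowerCentralSeries_antitone (le_max_right m m')).trans hLC

end Cfsg.Agent.Helper14.SG2
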