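import Mathlib
import Cfsg.Agent.Lib.SG3.SGFDefs
import Cfsg.Agent.Lib.SG3.SGFFH0
import Cfsg.Agent.Lib.SG3.SGFFHEXT

/-!
# S3795 design (helper14): Fitting-height bookkeeping (pieces SG2-FHE2, SG2-FHINV)
-/

set_option autoImplicit false
set_option linter.unusedSectionVars false

namespace Cfsg.Agent.Helper14.SG2

open Cfsg.Agent.Helper23.SGF

universe u

/-- transport of a Fitting chain along a group isomorphism (aux for SG2-FHE2) -/
theorem fhe2_of_mulEquiv {G H : Type u} [Group G] [Group H] (e : G ≃* H) (m : ℕ)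
    (h : FitH m G) : FitH m H := by
  obtain ⟨F, h0, hlast, hmono, hnorm, hstep⟩ := h
  refine ⟨fun i => (F i).map e.toMonoidHom, ?_, ?_, ?_, ?_, ?_⟩
  · show (F 0).map e.toMonoidHom = ⊥
    rw [h0, Subgroup.map_bot]
  · show (F (Fin.last m)).map e.toMonoidHom = ⊤
    rw [hlast]
    exact Subgroup.map_top_of_surjective _ e.surjective
  · intro i j hij
    exact Subgroup.map_mono (hmono hij)
  · intro i
    exact (hnorm i).map e.toMonoidHom e.surjective
  · intro i
    obtain ⟨k, hk⟩ := hstep i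
    refine ⟨k, ?_⟩
    show ((F i.succ).map e.toMonoidHom).lowerCentralSeries k ≤ (F i.castSucc).map e.toMonoidHom
    rw [← Subgroup.map_lowerCentralSeries]
    exact Subgroup.map_mono hk

/-- **piece SG2-FHE2.**  Two-step extension of `fitH_ext`: `N₁ ≤ N₂` normal in `G`, `N₁` nilpotent,
`N₂ / N₁` nilpotent, `G / N₂` of Fitting height `≤ m`  ⟹  `G` of Fitting height `≤ m + 2`.
Suggested proof: direct construction `F := Fin.cons ⊥ (Fin.cons N₁ (fun i => (Fb i).comap (mk' N₂)))`
… or (easier) apply `fitH_ext` twice: first prove `FitH (m+1) (G ⧸ N₁)` from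
`fitH_ext m (N₂.map (mk' N₁))` (its lower central series: `Subgroup.map_lowerCentralSeries`,
`h2`, and `(N₁).map (mk' N₁) = ⊥`) and the transport of `FitH m` along
`QuotientGroup.quotientQuotientEquivQuotient N₁ N₂ h12 : (G ⧸ N₁) ⧸ N₂.map (mk' N₁) ≃* G ⧸ N₂`
(prove a small lemma `fitH_of_mulEquiv : G ≃* H → FitH m G → FitH m H`, images of the chain under
`Subgroup.map e`), then `fitH_ext (m+1) N₁ h1`. -/
theorem fitH_ext2 {G : Type u} [Group G] (m : ℕ) (N₁ N₂ : Subgroup G) [N₁.Normal] [N₂.Normal]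
    (h12 : N₁ ≤ N₂) (h1 : ∃ k : ℕ, N₁.lowerCentralSeries k = ⊥)
    (h2 : ∃ k : ℕ, N₂.lowerCentralSeries k ≤ N₁) (h : FitH m (G ⧸ N₂)) : FitH (m + 2) G := by
  haveI hN2bar : (N₂.map (QuotientGroup.mk' N₁)).Normal :=
    Subgroup.Normal.map inferInstance _ (QuotientGroup.mk'_surjective N₁)
  have hq : FitH m ((G ⧸ N₁) ⧸ N₂.map (QuotientGroup.mk' N₁)) :=
    fhe2_of_mulEquiv (QuotientGroup.quotientQuotientEquivQuotient N₁ N₂ h12).symm m h
  have hbar : ∃ k : ℕ, (N₂.map (QuotientGroup.mk' N₁)).lowerCentralSeries k = ⊥ := by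
    obtain ⟨k, hk⟩ := h2
    refine ⟨k, ?_⟩
    rw [← Subgroup.map_lowerCentralSeries, eq_bot_iff]
    calc (N₂.lowerCentralSeries k).map (QuotientGroup.mk' N₁)
        ≤ N₁.map (QuotientGroup.mk' N₁) := Subgroup.map_mono hk
      _ = ⊥ := QuotientGroup.map_mk'_self N₁
  have h1' : FitH (m + 1) (G ⧸ N₁) := fitH_ext m (N₂.map (QuotientGroup.mk' N₁)) hbar hq
  exact fitH_ext (m + 1) N₁ h1 h1'

/-- **piece SG2-FHINV.**  A finite group with a fixed-point-free automorphism `τ`, `τ ^ 2 = 1`, is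
abelian, hence of Fitting height `≤ 1`.
Proof: Mathlib `MonoidHom.FixedPointFree` (file Mathlib/GroupTheory/FixedPointFree.lean):
`φ := (τ : G →* G)` is `FixedPointFree` and `Function.Involutive φ` (from `τ ^ 2 = 1`), so
`FixedPointFree.commute_all_of_involutive` (or `coe_eq_inv_of_involutive`) gives that `G` is
commutative; then `(⊤ : Subgroup G).lowerCentralSeries 1 = ⁅⊤, ⊤⁆ = ⊥`, and the chain
`F 0 = ⊥, F 1 = ⊤` works (`Fin 2`). -/
theorem fitH_one_of_inv {G : Type u} [Group G] [Finite G] (τ : MulAut G) (hτ : τ ^ 2 = 1)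
    (hfpf : ∀ x : G, τ x = x → x = 1) : FitH 1 G := by
  have hφ : MonoidHom.FixedPointFree (τ.toMonoidHom : G →* G) := fun g hg => hfpf g hg
  have hinv : Function.Involutive (τ.toMonoidHom : G →* G) := by
    intro g
    have h1 : (τ ^ 2) g = g := by rw [hτ]; rfl
    rw [pow_two, MulAut.mul_apply] at h1
    exact h1
  have hcomm : ∀ g h : G, g * h = h * g := fun g h => (hφ.commute_all_of_involutive hinv g h).eq
  refine ⟨![⊥, ⊤], rfl, rfl, ?_, ?_, ?_⟩
  · intro i j hij
    fin_cases i <;> fin_cases j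
    · exact le_rfl
    · exact bot_le
    · exact absurd hij (by decide)
    · exact le_rfl
  · intro i
    fin_cases i
    · exact (inferInstance : (⊥ : Subgroup G).Normal)
    · exact (inferInstance : (⊤ : Subgroup G).Normal)
  · intro i
    fin_cases i
    refine ⟨1, ?_⟩
    show (⊤ : Subgroup G).lowerCentralSeries 1 ≤ ⊥
    rw [Subgroup.lowerCentralSeries_succ, Subgroup.lowerCentralSeries_zero, Subgroup.commutator_le]
    intro a _ b _
    rw [Subgroup.mem_bot, commutatorElement_def, hcomm a b]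
    group

end Cfsg.Agent.Helper14.SG2
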