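import Mathlib
import Cfsg.Agent.Lib.SG2.SG2Defs
import Cfsg.Agent.Lib.SG2.SG2CFG
import Cfsg.Agent.Lib.SG2.SG2CLAIM2

/-!
# S3795 design (helper14), piece SG2-AUT2: CLAIM2 in automorphism form (the base case n = 2 is SG2BASE, via S3794)
-/

set_option autoImplicit false
set_option linter.unusedSectionVars false

namespace Cfsg.Agent.Helper14.SG2

open Cfsg.Agent.Helper23.SGF

universe u

theorem aut2_nilp_of_inj {N L : Type*} [Group N] [Group L] [Group.IsNilpotent L] (f : N →* L)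
    (hf : Function.Injective f) : Group.IsNilpotent N := by
  apply Subgroup.isNilpotent_of_ker_le_center f
  rw [(MonoidHom.ker_eq_bot_iff f).mpr hf]
  exact bot_le

/-- **piece SG2-AUT2.**  Normal subgroups `N₁ ≤ N₂` of `G`, `N₂` `σ`-invariant, `N₁` nilpotent,
`N₂ / N₁` nilpotent, `σ ^ (2 ^ n)` trivial modulo `N₂`.
Proof: if `σ ^ (2 ^ n) = 1` take `N₁ = N₂ = ⊥`.  Otherwise `exists_cfg` gives `Γ, il, s, cfg, haut`;
`claim2 cfg : TwoStep il.range L` with `L := ⁅il.range, zpowers (s ^ 2 ^ n)⁆` gives `N ≤ L`,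
`il.range`-invariant, nilpotent, `L.lowerCentralSeries m ≤ N`.  `N₂ := L.comap il`
(`transfer_comap`), `N₁ := N.comap il`: normal in `G` from the invariance (`il g ∈ il.range`),
`N₁ ≤ N₂` (`Subgroup.comap_mono`), nilpotent (injective `il.subgroupComap N`), and
`N₂.lowerCentralSeries m ≤ N₁`:  `(N₂.lowerCentralSeries m).map il = (N₂.map il).lowerCentralSeries m`
(`Subgroup.map_lowerCentralSeries`) `≤ L.lowerCentralSeries m` (`Subgroup.lowerCentralSeries_mono`,
`Subgroup.map_comap_le`) `≤ N`, then `Subgroup.map_le_iff_le_comap`. -/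
theorem exists_two_step_normal {G : Type u} [Group G] [Finite G] (hG : Group.IsSolvable G)
    (σ : MulAut G) (n : ℕ) (hσ : σ ^ (2 ^ (n + 1)) = 1) (hfpf : ∀ g : G, σ g = g → g = 1) :
    ∃ N₁ N₂ : Subgroup G, N₁.Normal ∧ N₂.Normal ∧ N₁ ≤ N₂ ∧ (∀ g ∈ N₂, σ g ∈ N₂) ∧
      Group.IsNilpotent ↥N₁ ∧ (∃ m : ℕ, N₂.lowerCentralSeries m ≤ N₁) ∧
      ∀ g : G, g⁻¹ * (σ ^ (2 ^ n)) g ∈ N₂ := by
  by_cases hψ : σ ^ (2 ^ n) = 1
  · refine ⟨⊥, ⊥, inferInstance, inferInstance, le_rfl, ?_, inferInstance, ⟨0, ?_⟩, ?_⟩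
    · intro g hg
      rw [Subgroup.mem_bot] at hg ⊢
      rw [hg, map_one]
    · intro x hx
      have h1 : x ∈ (⊥ : Subgroup G) := Subgroup.lowerCentralSeries_le_self _ _ hx
      exact h1
    · intro g
      rw [hψ, MulAut.one_apply, inv_mul_cancel]
      exact Subgroup.one_mem _
  · obtain ⟨Γ, _, _, il, s, hil, cfg, haut, hcard⟩ := exists_cfg hG σ n hσ hψ hfpf
    obtain ⟨N, hNL, hNinv, hNnil, m, hm⟩ := claim2 cfg
    obtain ⟨hn2, hinv2, hmem2⟩ := transfer_comap il σ s (2 ^ n) cfg.normal haut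
    refine ⟨N.comap il, (⁅il.range, Subgroup.zpowers (s ^ (2 ^ n))⁆).comap il,
      ?_, hn2, Subgroup.comap_mono hNL, hinv2, ?_, ⟨m, ?_⟩, hmem2⟩
    · constructor
      intro x hx g
      rw [Subgroup.mem_comap] at hx ⊢
      rw [map_mul, map_mul, map_inv]
      exact hNinv (il g) ⟨g, rfl⟩ _ hx
    · have := hNnil
      apply aut2_nilp_of_inj (il.subgroupComap N)
      intro x y hxy
      apply Subtype.ext
      apply hil
      exact congrArg Subtype.val hxy
    · rw [← Subgroup.map_le_iff_le_comap]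
      refine le_trans ?_ hm
      rw [Subgroup.map_lowerCentralSeries]
      exact Subgroup.lowerCentralSeries_mono m (Subgroup.map_comap_le _ _)

end Cfsg.Agent.Helper14.SG2
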