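import Mathlib
import Cfsg.Agent.Lib.SG3.SGFDefs
import Cfsg.Agent.Lib.SG3.SGFFH0
import Cfsg.Agent.Lib.SG3.SGFFHEXT
import Cfsg.Agent.Lib.SG3.SGFAUTQ
import Cfsg.Agent.Lib.SG2.SG2FH
import Cfsg.Agent.Lib.SG2.SG2BASE
import Cfsg.Agent.Lib.SG2.SG2FIN

/-! S3795 design (helper14): induction on `n` (assembly). -/

set_option autoImplicit false
set_option linter.unusedSectionVars false

namespace Cfsg.Agent.Helper14.SG2

open Cfsg.Agent.Helper23.SGF

universe u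

theorem main2 : ∀ n : ℕ, ∀ (G : Type u) [Group G] [Finite G], Group.IsSolvable G →
    ∀ σ : MulAut G, σ ^ (2 ^ (n + 2)) = 1 → (∀ g : G, σ g = g → g = 1) →
    FitH (2 * n + 2) G := by
  intro n
  induction n with
  | zero =>
    intro G _ _ hG σ hσ hfpf
    exact fitH_two_of_four hG σ hσ hfpf
  | succ n ih =>
    intro G _ _ hG σ hσ hfpf
    obtain ⟨N₁, N₂, hN₁n, hN₂n, h12, hNσ, hNnil, hlcs, hNk⟩ :=
      exists_two_step_normal hG σ (n + 2) hσ hfpf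
    haveI := hN₁n
    haveI := hN₂n
    obtain ⟨τ, hτ, hτfpf⟩ := exists_quot_aut σ N₂ hNσ hfpf (2 ^ (n + 2)) hNk
    have hsol : Group.IsSolvable (G ⧸ N₂) :=
      Group.isSolvable_of_surjective (QuotientGroup.mk'_surjective N₂)
    have h2 := fitH_ext2 (2 * n + 2) N₁ N₂ h12 (exists_lcs_eq_bot N₁ hNnil) hlcs
      (ih (G ⧸ N₂) hsol τ hτ hτfpf)
    have e : 2 * (n + 1) + 2 = 2 * n + 2 + 2 := by ring
    rw [e]
    exact h2

end Cfsg.Agent.Helper14.SG2
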